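import Cfsg.Agent.Lib.Coset.Build
import Cfsg.Prelude.Def_Spor_Suz

/-! # The presentation of the Suzuki sporadic group in numbered letters -/

set_option autoImplicit false

namespace Cfsg.Agent.Lib.SporPres.Suz

open Cfsg.Agent.Lib.Coset Cfsg.Spor

/-- The generators, numbered. -/
def idx : Cfsg.Spor.Suz.Gen → ℕ
  | .a => 0
  | .b => 1
  | .c => 2
  | .d => 3
  | .e => 4
  | .f => 5
  | .g => 6

/-- The presentation in numbered letters. -/
def pres : Pres Cfsg.Spor.Suz.Gen Cfsg.Spor.Suz.edges Cfsg.Spor.Suz.extra where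
  gl := [.a, .b, .c, .d, .e, .f, .g]
  dflt := .a
  words := [[0] ++ (rep 4 [2, 3]).reverse, [0] ++ (rep 2 [5, 6]).reverse, rep 5 [0, 1, 2, 5],
    rep 5 [1, 5, 6], rep 3 (rep 5 [1, 2, 3, 2, 3] ++ [4])]
  mem a := by cases a <;> simp
  nodes a := by cases a <;> decide
  lift {Δ} _ f hf := by
    simp only [Cfsg.Spor.Suz.extra, Cfsg.Spor.Suz.a, Cfsg.Spor.Suz.b, Cfsg.Spor.Suz.c,
      Cfsg.Spor.Suz.d, Cfsg.Spor.Suz.e, Cfsg.Spor.Suz.f, Cfsg.Spor.Suz.g, List.map_cons,
      List.map_nil, map_mul, map_pow, map_inv, FreeGroup.lift_apply_of, ev_append, ev_rep,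
      ev_cons, ev_nil, mul_one, List.getD_cons_zero, List.getD_cons_succ,
      ev_reverse _ _ fun k _ => hf _, mul_assoc]

/-- The generators in the presented group. -/
abbrev φ : ℕ → Cfsg.Spor.Suz := pres.φ

theorem idx_lt (a : Cfsg.Spor.Suz.Gen) : idx a < pres.gl.length := by
  cases a <;> decide

theorem gl_idx (a : Cfsg.Spor.Suz.Gen) : pres.gl.getD (idx a) pres.dflt = a := by
  cases a <;> rfl

theorem idx_gl : ∀ k < pres.gl.length, idx (pres.gl.getD k pres.dflt) = k := by decide +kernel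

theorem words_lt : ∀ w ∈ pres.words, ∀ k ∈ w, k < pres.gl.length := by decide +kernel

end Cfsg.Agent.Lib.SporPres.Suz
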