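import Cfsg.Prelude.Def_Sporadic
import Cfsg.Agent.Lib.SporPres.Suz.Pres
import Cfsg.Agent.Lib.SporPres.Suz.S10
import Cfsg.Agent.Lib.SporPres.Suz.S216
import Cfsg.Agent.Lib.SporPres.Suz.S280
import Cfsg.Agent.Lib.SporPres.Suz.S416
import Cfsg.Agent.Lib.SporPres.Suz.S1782
import Cfsg.Agent.Lib.SporPres.Suz.Orbits

/-! # Cosets, order and simplicity of the presented Suzuki sporadic group -/

set_option autoImplicit false

namespace Cfsg.Agent.Lib.SporPres.Suz

open Cfsg.Agent.Lib.Coset

/-- The subgroup generated by the first `k` generators. -/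
abbrev sub (k : ℕ) : Subgroup Cfsg.Spor.Suz := Subgroup.closure (φ '' Set.Iio k)

theorem model {C : Cert} {k : ℕ} (hr : C.rels.all (isRot pres.base) = true)
    (hs : lettersBelow k C.subs = true) : Cert.Model C φ (sub k) :=
  model_of pres.φ_inv pres.base_eq_one hr (mem_closure_letters hs)

theorem m10 : Cert.Model S10.cert φ (sub 0) := model (by decide +kernel) (by decide +kernel)
theorem m216 : Cert.Model S216.cert φ (sub 2) := model (by decide +kernel) (by decide +kernel)
theorem m280 : Cert.Model S280.cert φ (sub 4) := model (by decide +kernel) (by decide +kernel)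
theorem m416 : Cert.Model S416.cert φ (sub 5) := model (by decide +kernel) (by decide +kernel)
theorem m1782 : Cert.Model S1782.cert φ (sub 6) := model (by decide +kernel) (by decide +kernel)

theorem sub_six : (sub 6 : Set Cfsg.Spor.Suz).Finite ∧ Nat.card (sub 6) ≤ 251596800 := by
  have h2 := card_step (card_bot φ) (S10.covers m10)
  have h4 := card_step h2 (S216.covers m216)
  have h5 := card_step h4 (S280.covers m280)
  exact card_step h5 (S416.covers m416)

theorem gen : sub 7 = ⊤ := pres.gen

theorem group_le : Finite Cfsg.Spor.Suz ∧ Nat.card Cfsg.Spor.Suz ≤ 448345497600 := by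
  have h := card_step sub_six (S1782.covers m1782)
  rw [show Subgroup.closure (φ '' Set.Iio 7) = ⊤ from gen, Subgroup.card_top] at h
  refine ⟨?_, h.2⟩
  have h1 := h.1
  rw [Subgroup.coe_top] at h1
  exact Set.finite_univ_iff.1 h1

/-- The table. -/
abbrev tab : Tab := S1782.tab

theorem good : tab.Good :=
  Tab.good_of_invOK (B := 2000) (fun k hk => by
    have : k = 0 := by
      have : tab.size = 1782 := rfl
      omega
    subst this
    decide +kernel) (by norm_num)

theorem relators : ∀ i < tab.size, ∀ w ∈ pres.base, tab.app w i = i :=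
  Tab.relOK_spec (B := 200) (by norm_num) fun k hk => by
    have hk' : k < 9 := by
      have : tab.size = 1782 := rfl
      omega
    interval_cases k <;> decide +kernel

theorem base_lt : ∀ w ∈ pres.base, ∀ k ∈ w, k < tab.gens := by decide +kernel

/-- The action on the cosets. -/
noncomputable def act : Cfsg.Spor.Suz →* Equiv.Perm (Fin tab.size) :=
  pres.toPerm tab good relators base_lt idx idx_lt gl_idx idx_gl words_lt

theorem act_φ : ∀ g < tab.gens, act (φ g) = tab.perm good g :=
  pres.toPerm_φ tab good relators base_lt idx idx_lt gl_idx idx_gl words_lt rfl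

/-- The words of the subgroup. -/
def subWords : List (List ℕ) := [[0], [1], [2], [3], [4], [5]]

theorem sub_eq : sub 6 = wordSub φ subWords :=
  le_antisymm (closure_letters_le φ (by decide +kernel)) (wordSub_le_closure φ (by decide +kernel))

theorem pos : 0 < tab.size := by decide +kernel

/-- The representation on the cosets. -/
noncomputable def rep : Rep Cfsg.Spor.Suz tab :=
  mkRep tab S1782.cert S1782.ord φ (sub 6) act good act_φ pos gen (by decide +kernel)
    (fun e he => S1782.edges_hold m1782 e he) (S1782.covers m1782) (by decide +kernel)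
    (fix_of act_φ pos (by decide +kernel) (by decide +kernel) sub_eq.le)

theorem index_six : (sub 6).index = 1782 := rep.index_eq

theorem chain_ok : tab.chainOK chain = true := by decide +kernel

theorem chain_letters : (chain.all fun l => lettersBelow tab.gens l.2.1) = true := by decide +kernel

theorem range_ge : 448345497600 ≤ Nat.card act.range := by
  have h : Tab.chainCard chain = 448345497600 := by decide +kernel
  rw [← h]
  refine tab.chain_spec good chain_ok fun l hl w hw => ⟨ev φ w, ?_⟩
  have hlt := List.all_eq_true.1 chain_letters l hl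
  simp only [lettersBelow, List.all_eq_true, decide_eq_true_eq] at hlt
  rw [ev_comp, ev, ev, List.map_congr_left (f := ⇑act ∘ φ) (g := tab.perm good) fun a ha =>
    act_φ a (hlt w hw a ha)]

theorem card_and_inj : Nat.card Cfsg.Spor.Suz = 448345497600 ∧ Function.Injective act :=
  rep.order group_le.1 group_le.2 range_ge

theorem card_six : Nat.card (sub 6) = 251596800 := by
  have h := Subgroup.index_mul_card (sub 6)
  rw [index_six, card_and_inj.1] at h
  omega

theorem orbit_ok : (orbs.all fun o => tab.orbitOK subWords o.1 o.2 && tab.closedOK subWords o.1 o.2) =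
    true := by decide +kernel

theorem orbits (o : ℕ × List Tab.Step) (ho : o ∈ orbs) (hb : o.1 < tab.size) :
    (MulAction.orbit ((sub 6).map act) (⟨o.1, hb⟩ : Fin tab.size)).ncard = o.2.length + 1 ∧
      ∀ x : Fin tab.size, x ∈ MulAction.orbit ((sub 6).map act) (⟨o.1, hb⟩ : Fin tab.size) ↔
        (x : ℕ) ∈ Tab.pts o.1 o.2 := by
  have h := List.all_eq_true.1 orbit_ok o ho
  rw [Bool.and_eq_true] at h
  exact Tab.orbit_eq good h.1 h.2
    (by rw [sub_eq, map_wordSub act φ (tab.perm good) act_φ (by decide +kernel)]) hb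

theorem exists_orbit_card {o : ℕ × List Tab.Step} (ho : o ∈ orbs) (hb : o.1 < tab.size) :
    ∃ q : Cfsg.Spor.Suz ⧸ sub 6, (MulAction.orbit (sub 6) q).ncard = o.2.length + 1 := by
  obtain ⟨q, hq⟩ := rep.exists_orbit hb
  refine ⟨q, (rep.ncard_orbit q).trans ?_⟩
  rw [hq]
  exact (orbits o ho hb).1

theorem xWord_fix : ∀ i < tab.size, ∀ w ∈ [Coset.rep 11 xWord, gWord.reverse ++ (zWord ++ (gWord ++ [6]))],
    tab.app w i = i :=
  Tab.relOK_spec (B := 200) (by norm_num) fun k hk => by
    have hk' : k < 9 := by
      have : tab.size = 1782 := rfl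
      omega
    interval_cases k <;> decide +kernel

theorem isSuz : Cfsg.IsSuz Cfsg.Spor.Suz := by
  have hinj := card_and_inj.2
  have hfin := group_le.1
  refine ⟨?_, card_and_inj.1⟩
  have hnt : Nontrivial Cfsg.Spor.Suz := by
    rw [← Finite.one_lt_card_iff_nontrivial, card_and_inj.1]
    norm_num
  refine ⟨fun N hN => or_iff_not_imp_left.2 fun hne => ?_⟩
  have hsup := rep.sup_eq_top hinj (orbs := orbs) (by decide +kernel) orbits N hne
  have hx11 : ev φ xWord ^ 11 = 1 := by
    rw [← ev_rep]
    exact ev_eq_one_of_fix act_φ hinj (by decide +kernel) fun i hi => xWord_fix i hi _ (by simp)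
  have hx : ev φ xWord ∈ N := rep.mem_of_coprime hsup hx11 (by
    show Nat.Coprime 11 (Nat.card (sub 6))
    rw [card_six]; norm_num)
  have hg : φ 6 ∈ N := gen_mem pres.φ_inv (z := zWord) (g := gWord)
    (witWord_mem pres.φ_inv hx)
    (ev_eq_one_of_fix act_φ hinj (by decide +kernel) fun i hi => xWord_fix i hi _ (by simp))
  have cox : ∀ i j m, List.elem (Coset.rep m [i, j]) pres.base = true →
      (φ i * φ j) ^ m = 1 := fun i j m h => by
    have := pres.base_eq_one _ (List.elem_iff.1 h)
    rwa [ev_rep, ev_cons, ev_cons, ev_nil, mul_one] at this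
  have hb : φ 1 ∈ N := mem_of_odd (pres.φ_inv 1) (by decide) (cox 6 1 3 (by decide +kernel)) hg
  have hc : φ 2 ∈ N := mem_of_odd (pres.φ_inv 2) (by decide) (cox 1 2 3 (by decide +kernel)) hb
  have ha : φ 0 ∈ N := mem_of_odd (pres.φ_inv 0) (by decide) (cox 1 0 5 (by decide +kernel)) hb
  have hf : φ 5 ∈ N := mem_of_odd (pres.φ_inv 5) (by decide) (cox 1 5 3 (by decide +kernel)) hb
  -- modulo the subgroup the last relator leaves `e` with cube one
  have he : φ 4 ∈ N := by
    have hq : ∀ {y}, y ∈ N → (QuotientGroup.mk' N) y = 1 := fun h => (QuotientGroup.eq_one_iff _).2 h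
    have h := congrArg (QuotientGroup.mk' N) (pres.base_eq_one
      (Coset.rep 3 (Coset.rep 5 [1, 2, 3, 2, 3] ++ [4])) (by simp [Pres.base, pres]))
    simp only [ev_rep, ev_append, ev_cons, ev_nil, mul_one, map_pow, map_mul, map_one, hq hb, hq hc,
      one_mul] at h
    rw [← map_mul, pres.φ_inv 3, map_one, one_pow, one_mul, pow_succ, pow_two, ← map_mul,
      pres.φ_inv 4, map_one, one_mul] at h
    exact (QuotientGroup.eq_one_iff _).1 h
  have hd : φ 3 ∈ N := mem_of_odd (pres.φ_inv 3) (by decide) (cox 4 3 3 (by decide +kernel)) he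
  rw [eq_top_iff, ← gen]
  refine (Subgroup.closure_le _).2 ?_
  rintro _ ⟨k, hk, rfl⟩
  rw [Set.mem_Iio] at hk
  interval_cases k <;> assumption

end Cfsg.Agent.Lib.SporPres.Suz
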