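import Cfsg.Agent.Lib.Coset.Words

/-! # Data: six involutions of G2(4) satisfying the relators of Suz, and words for the root elements -/

set_option autoImplicit false

namespace Cfsg.Agent.Lib.SporPres.Suz.Chev

/-- The packed rows of the matrices of the involutions. -/
def rowsOne : List (List ℕ) := [[5,2,4,8,16,32,64,128,264,512,1040,2080,4224,8198],
  [35654035,53090714,222309376,192551385,124188467,256666856,4720744,262805915,108385595,69473808,97013436,53680639,105338801,2555952],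
  [41,186,4,12,20,36,104,132,505,656,1723,2297,4795,15616],
  [3,2,4,128,524288,262160,8389120,8,4096,1048576,33554432,16778240,256,8192],
  [262167,852018,4,128,65572,65556,2163328,8,8917636,196680,2443301,1033235,1442124,60583082],
  [65541,2,4,8,16,32,64,128,131336,512,263184,526368,2101376,106498]]

/-- The rows multiplied by a primitive cube root of unity. -/
def rowsW : List (List ℕ) := [[81920,32768,65536,131072,262144,524288,1048576,2097152,4325376,8388608,17039360,34078720,69206016,134316032],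
  [4507776,88902824,104871168,218918376,178920859,74874161,38928672,164429480,54204887,27267216,107435809,88919244,61544733,2818204],
  [671744,3047424,65536,196608,327680,589824,1703936,2162688,8273920,10747904,28229632,37634048,78561280,255852544],
  [49152,32768,65536,2097152,524320,16,512,131072,67108864,1048640,33556480,1024,4194304,134217728],
  [114704,98356,65536,2097152,524292,262148,8454276,131072,69796384,1114124,36438165,17498175,4522072,146198129],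
  [16388,32768,65536,131072,262144,524288,1048576,2097152,4194312,8388608,16777232,33554464,67108992,134283270]]

/-- Words for the root elements. -/
def rootWords : List (List ℕ) := [[],
  [4,3,2,5,1,0,1,2,1,3,4,5],
  [1,0,1,4,3,2,1,5,1,0,1,2,3,4,5],
  [1,0,4,3,2,3,4,5,1],
  [],
  [2,3,5,1,0,1,2,3,2,1,4,3,2,3,4,1,2,3,2,1,0,1,5,3,2],
  [2,3,5,1,0,1,2,3,2,4,3,2,5,1,0,1,5,2,3,4,2,3,2,1,0,1,5,3,2],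
  [1,2,1,3,2,4,3,2,1,0,5,1,2,3,4,3,2,3,2,1,0,1,5,4,1,2,0],
  [],
  [1,2,1,0,1,4,3,2,3,4,5,1,0,1,2,3,2,1,5,4,3,2,3,4,1,2,3,0,1],
  [1,2,1,0,1,4,3,2,3,4,5,1,0,1,2,3,2,1,5,4,3,2,3,4,1,2,3,0,1,4,5,1,0,1,2,3,2,3,4,5,1,2,3,2,1,5,4,3,1,0,1,2,3,2,1,5,4,3,0],
  [4,5,1,0,1,2,3,2,3,4,5,1,2,3,2,1,5,4,3,1,0,1,2,3,2,1,5,4,3,0],
  [],
  [3,4,5,1,0,1,2,3,2,3,4,5,1,2,3,2,1,5,4,3,1,0,1,2,3,2,1,5,4,0,1,3,2,1,0,1,4,3,2,3,4,5,1,0,1,2,3,2,1,5,4,3,2,3,4,1,2,0,1],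
  [3,4,5,1,0,1,2,3,2,3,4,5,1,2,3,2,1,5,4,3,1,0,1,2,3,2,1,5,4,0],
  [1,3,2,1,0,1,4,3,2,3,4,5,1,0,1,2,3,2,1,5,4,3,2,3,4,1,2,0,1],
  [],
  [1,3,2,1,0,4,3,2,5,1,2,3,2,1,5,3,4,0,1,2,3,1,0],
  [1,3,2,1,0,4,3,2,5,1,2,3,2,1,5,3,4,0,1,2,3,1,0,2,1,4,3,2,1,0,5,1,0,2,3,2,1,5,2,3,4,2,1],
  [2,1,4,3,2,1,0,5,1,0,2,3,2,1,5,2,3,4,2,1],
  [],
  [3,2,3,5,1,0,1,2,3,2,1,4,3,2,3,4,1,2,3,2,1,0,1,5,3,2,3],
  [1,2,1,0,5,1,0,1,2,3,2,1,4,3,5,2,3,4,1,2,3,2,1,0,1,5,0,1,2,1],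
  [1,3,2,1,3,2,4,3,2,1,0,5,1,2,3,4,3,2,3,2,1,0,1,5,4,1,2,3,0],
  [],
  [1,2,3,4,3,2,1,3,2,1,3,2,4,3,2,1,0,1,2,3,4,2,3,2,0,1,0,1],
  [1,5,1,2,3,2,4,3,2,1,0,1,2,3,4,2,3,2,3,1,2,3,4,2,3,2,1,5,0,1],
  [1,2,3,4,3,2,1,3,2,1,3,2,4,3,2,1,0,1,2,3,4,2,3,2,0,1,0,1,1,5,1,2,3,2,4,3,2,1,0,1,2,3,4,2,3,2,3,1,2,3,4,2,3,2,1,5,0,1],
  [],
  [3,2,1,4,3,2,1,0,5,1,0,2,3,2,1,5,2,3,4,2,3,1],
  [1,2,1,0,4,3,2,5,1,2,3,2,1,3,5,4,0,1,2,1,0],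
  [3,2,1,4,3,2,1,0,5,1,0,2,3,2,1,5,2,3,4,2,3,1,1,2,1,0,4,3,2,5,1,2,3,2,1,3,5,4,0,1,2,1,0],
  [],
  [2,3,2,1,0,4,3,5,1,0,1,2,3,2,1,0,1,5,4,3,0,1],
  [2,3,2,1,0,1,0,3,4,5,1,2,3,2,1,5,3,4,0,1,0,1],
  [3,4,3,2,3,2,1,0,1,0,4,5,1,2,3,2,1,5,0,1,0,1],
  [],
  [2,3,4,3,2,1,0,5,1,0,1,2,3,2,1,0,1,5,4,3,0,1],
  [4,3,2,3,2,1,0,1,0,4,5,1,2,3,2,1,5,3,0,1,0,1],
  [3,2,3,2,1,0,4,3,5,1,0,1,2,3,2,1,0,1,5,4,0,1],
  [],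
  [1,2,3,2,1,4,3,2,1,3,2,4,3,2,3,1,0,1,2,3,4,2,3,2,1,0,1],
  [1,2,3,4,3,2,3,2,5,1,0,1,2,3,4,2,3,1,2,3,4,1,2,3,2,0,1,5,0,1,5],
  [1,2,3,2,1,4,3,2,1,3,2,4,3,2,3,1,0,1,2,3,4,2,3,2,1,0,1,1,2,3,4,3,2,3,2,5,1,0,1,2,3,4,2,3,1,2,3,4,1,2,3,2,0,1,5,0,1,5],
  [],
  [0],
  [0,5],
  [5]]

end Cfsg.Agent.Lib.SporPres.Suz.Chev
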